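import Mathlib.AlgebraicGeometry.Morphisms.Flat
import Mathlib.RingTheory.Flat.FaithfullyFlat.Algebra

/-!
# Pullback of sections along flat surjections (after `Groth.Agent.L23.SchDense`)
-/

universe u

open CategoryTheory AlgebraicGeometry TopologicalSpace

set_option linter.style.haveILetI false
set_option backward.isDefEq.respectTransparency.types false

namespace Groth.L24.PinchRS

/-- Pullback of sections along a flat surjection is injective. -/
theorem app_injective_of_flat_surjective {Y X : Scheme.{u}} (π : Y ⟶ X) [Flat π] [Surjective π] (V : X.Opens) :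
    Function.Injective (π.app V).hom := by
  intro s t h
  refine TopCat.Presheaf.section_ext X.sheaf V s t fun x hx => ?_
  obtain ⟨y, rfl⟩ := π.surjective x
  change X.presheaf.germ V (π y) hx s = X.presheaf.germ V (π y) hx t
  have hinj : Function.Injective (π.stalkMap y).hom := by
    have hfl : (π.stalkMap y).hom.Flat := Flat.stalkMap π y
    letI := (π.stalkMap y).hom.toAlgebra
    haveI : Module.Flat (X.presheaf.stalk (π y)) (Y.presheaf.stalk y) := hfl
    haveI : IsLocalHom (algebraMap (X.presheaf.stalk (π y)) (Y.presheaf.stalk y)) :=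
      inferInstanceAs (IsLocalHom (π.stalkMap y).hom)
    haveI : Module.FaithfullyFlat (X.presheaf.stalk (π y)) (Y.presheaf.stalk y) :=
      Module.FaithfullyFlat.of_flat_of_isLocalHom
    exact FaithfulSMul.algebraMap_injective (X.presheaf.stalk (π y)) (Y.presheaf.stalk y)
  apply hinj
  change (π.stalkMap y).hom (X.presheaf.germ V (π y) hx s) = (π.stalkMap y).hom (X.presheaf.germ V (π y) hx t)
  have h1 := Scheme.Hom.germ_stalkMap_apply π V y hx s
  have h2 := Scheme.Hom.germ_stalkMap_apply π V y hx t
  exact h1.trans ((congrArg (Y.presheaf.germ (π ⁻¹ᵁ V) y hx) h).trans h2.symm)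

end Groth.L24.PinchRS
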