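import Groth.Agent.L23.PinchFlat
import Mathlib.AlgebraicGeometry.GammaSpecAdjunction
import Mathlib.Algebra.Category.Ring.Limits
import Mathlib.CategoryTheory.Limits.Types.Pullbacks

/-!
# Sections of a pinched scheme on an open are pairs of compatible sections
-/

universe u

open CategoryTheory CategoryTheory.Limits AlgebraicGeometry Opposite

set_option linter.style.haveILetI false
set_option backward.isDefEq.respectTransparency.types false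

namespace Groth.L24.PinchRS

open Groth.L20.Pinch

variable {X Y Z P : Scheme.{u}} {i : Z ⟶ X} {j : Z ⟶ Y} {a : X ⟶ P} {b : Y ⟶ P} [IsClosedImmersion i]

theorem isPullback_resLE {A B : Scheme.{u}} (f : A ⟶ B) (U : B.Opens) :
    IsPullback (f.resLE U (f ⁻¹ᵁ U) le_rfl) (f ⁻¹ᵁ U).ι U.ι f := by
  rw [Scheme.Hom.resLE_eq_morphismRestrict]
  exact isPullback_morphismRestrict f U

/-- Sections of a pinched scheme on an open form a fibre product. -/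
theorem isPullback_sections (h : IsPinch i j a b) (U : P.Opens) :
    IsPullback (a.app U) (b.app U)
      (i.appLE (a ⁻¹ᵁ U) ((i ≫ a) ⁻¹ᵁ U) le_rfl)
      (j.appLE (b ⁻¹ᵁ U) ((i ≫ a) ⁻¹ᵁ U) (by rw [h.comm]; exact le_rfl)) := by
  let W := (i ≫ a) ⁻¹ᵁ U
  have e1 : W ≤ j ⁻¹ᵁ (b ⁻¹ᵁ U) := by show W ≤ (j ≫ b) ⁻¹ᵁ U; rw [← h.comm]
  have e2 : W ≤ i ⁻¹ᵁ (a ⁻¹ᵁ U) := le_rfl
  let l2 := i.resLE (a ⁻¹ᵁ U) W e2
  let l1 := j.resLE (b ⁻¹ᵁ U) W e1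
  let pr2 := a.resLE U (a ⁻¹ᵁ U) le_rfl
  let pr1 := b.resLE U (b ⁻¹ᵁ U) le_rfl
  have hl : l2 ≫ pr2 = l1 ≫ pr1 := by
    rw [← cancel_mono U.ι]
    simp [l1, l2, pr1, pr2, h.comm]
  have hq0 : IsPullback (l2 ≫ pr2) W.ι U.ι (i ≫ a) := by
    rw [show l2 ≫ pr2 = (i ≫ a).resLE U W le_rfl from by rw [← cancel_mono U.ι]; simp [l2, pr2]]
    exact isPullback_resLE (i ≫ a) U
  have hpush := Groth.L23.PinchFlat.isPushout_of_flat (v := U.ι) h (isPullback_resLE b U)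
    (isPullback_resLE a U) hq0 hl (Scheme.Hom.resLE_comp_ι _ _) (Scheme.Hom.resLE_comp_ι _ _)
  haveI : Scheme.Γ.{u}.rightOp.IsLeftAdjoint := ΓSpec.adjunction.isLeftAdjoint
  have h2 : IsPullback pr2.appTop pr1.appTop l2.appTop l1.appTop := (hpush.map Scheme.Γ.rightOp).unop.flip
  refine h2.of_iso U.topIso (a ⁻¹ᵁ U).topIso (b ⁻¹ᵁ U).topIso W.topIso ?_ ?_ ?_ ?_ <;>
    simp only [l1, l2, pr1, pr2, Scheme.Hom.appTop, Scheme.Hom.resLE_app_top, Category.assoc, Iso.inv_hom_id,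
      Category.comp_id] <;>
    first | rfl | simp [Scheme.Hom.app_eq_appLE]

/-- Compatible sections glue uniquely. -/
theorem existsUnique_section (h : IsPinch i j a b) (U : P.Opens) (s : Γ(X, a ⁻¹ᵁ U)) (t : Γ(Y, b ⁻¹ᵁ U))
    (hst : i.appLE (a ⁻¹ᵁ U) ((i ≫ a) ⁻¹ᵁ U) le_rfl s =
      j.appLE (b ⁻¹ᵁ U) ((i ≫ a) ⁻¹ᵁ U) (by rw [h.comm]; exact le_rfl) t) :
    ∃! r : Γ(P, U), a.app U r = s ∧ b.app U r = t := by
  obtain ⟨-, hinj, hex⟩ := (Types.isPullback_iff _ _ _ _).mp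
    ((isPullback_sections h U).map (forget CommRingCat.{u}))
  obtain ⟨r, hr1, hr2⟩ := hex s t hst
  exact ⟨r, ⟨hr1, hr2⟩, fun r' hr' => hinj r' r ⟨hr'.1.trans hr1.symm, hr'.2.trans hr2.symm⟩⟩

end Groth.L24.PinchRS
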