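import Groth.Agent.L24.PinchRS.Reflect
import Groth.Agent.L24.PinchRS.Sections

/-!
# A pinched square is a pushout of ringed spaces
-/

universe u v

open CategoryTheory CategoryTheory.Limits AlgebraicGeometry Opposite TopologicalSpace

set_option linter.style.haveILetI false
set_option backward.isDefEq.respectTransparency.types false
set_option backward.isDefEq.respectTransparency false

namespace Groth.L24.PinchRS

open Groth.L20.Pinch

variable {X Y Z P : Scheme.{u}} {i : Z ⟶ X} {j : Z ⟶ Y} {a : X ⟶ P} {b : Y ⟶ P} [IsClosedImmersion i]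

theorem isOpen_of_preimages (h : IsPinch i j a b) (O : Set P) (hX : IsOpen (a ⁻¹' O)) (hY : IsOpen (b ⁻¹' O)) :
    IsOpen O := by
  refine isOpen_iff_forall_mem_open.mpr fun p hp => ?_
  obtain ⟨k, u, hu, ⟨q, rfl⟩, heX, heY, -, -⟩ := h.chart p
  have hopen : IsOpen (u ⁻¹' O) := by
    refine k.isFib.isOpen_of_preimages _ ?_ ?_
    · convert! hY.preimage k.hV.fromSpec.continuous using 1
      ext s
      show u (k.inY s) ∈ O ↔ b (k.hV.fromSpec s) ∈ O
      rw [← Scheme.Hom.comp_apply, ← Scheme.Hom.comp_apply, heY]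
    · convert! hX.preimage k.hU.fromSpec.continuous using 1
      ext s
      show u (k.inX s) ∈ O ↔ a (k.hU.fromSpec s) ∈ O
      rw [← Scheme.Hom.comp_apply, ← Scheme.Hom.comp_apply, heX]
  exact ⟨u '' (u ⁻¹' O), Set.image_preimage_subset _ _, u.isOpenEmbedding.isOpenMap _ hopen, ⟨q, hp, rfl⟩⟩

theorem exists_fun (h : IsPinch i j a b) {W : Type v} (f : X → W) (g : Y → W) (hc : ∀ z, f (i z) = g (j z)) :
    ∃ G : P → W, (∀ x, G (a x) = f x) ∧ ∀ y, G (b y) = g y := by
  choose k u hu hp heX heY hXr hYr using h.chart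
  haveI := hu
  have hloc : ∀ p, ∃ G : (k p).spec → W, (∀ s, G ((k p).inY s) = g ((k p).hV.fromSpec s)) ∧
      ∀ s, G ((k p).inX s) = f ((k p).hU.fromSpec s) := fun p => by
    refine (k p).isFib.exists_desc (fun s => g ((k p).hV.fromSpec s)) (fun s => f ((k p).hU.fromSpec s))
      fun z => ?_
    show g ((k p).hV.fromSpec (Spec.map (j.appLE (k p).V (i ⁻¹ᵁ (k p).U) (k p).eq.le) z)) =
      f ((k p).hU.fromSpec (Spec.map (i.app (k p).U) z))
    rw [← Scheme.Hom.comp_apply, ← (k p).spec_j, ← Scheme.Hom.comp_apply, ← (k p).spec_i,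
      Scheme.Hom.comp_apply, Scheme.Hom.comp_apply, hc]
  choose G hGY hGX using hloc
  choose q hq using hp
  refine ⟨fun p => G p (q p), fun x => ?_, fun y => ?_⟩
  · have hx : x ∈ ((k (a x)).U : Set X) := hXr (a x) ▸ (⟨q (a x), hq (a x)⟩ : x ∈ a ⁻¹' Set.range (u (a x)))
    rw [← (k (a x)).hU.range_fromSpec] at hx
    obtain ⟨s, hs⟩ := hx
    have e : q (a x) = (k (a x)).inX s := (u (a x)).isOpenEmbedding.injective (by
      rw [hq, ← Scheme.Hom.comp_apply, ← heX, Scheme.Hom.comp_apply, hs])
    simp only [e, hGX, hs]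
  · have hy : y ∈ ((k (b y)).V : Set Y) := hYr (b y) ▸ (⟨q (b y), hq (b y)⟩ : y ∈ b ⁻¹' Set.range (u (b y)))
    rw [← (k (b y)).hV.range_fromSpec] at hy
    obtain ⟨s, hs⟩ := hy
    have e : q (b y) = (k (b y)).inY s := (u (b y)).isOpenEmbedding.injective (by
      rw [hq, ← Scheme.Hom.comp_apply, ← heY, Scheme.Hom.comp_apply, hs])
    simp only [e, hGY, hs]

theorem exists_continuousMap (h : IsPinch i j a b) {Q : TopCat.{u}}
    (f : X.toPresheafedSpace.carrier ⟶ Q) (g : Y.toPresheafedSpace.carrier ⟶ Q) (hc : i.base ≫ f = j.base ≫ g) :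
    ∃ G : P.toPresheafedSpace.carrier ⟶ Q, a.base ≫ G = f ∧ b.base ≫ G = g := by
  obtain ⟨G, hG1, hG2⟩ := exists_fun h (fun x => f x) (fun y => g y) (fun z => congrArg (fun m => m z) hc)
  have hcont : Continuous G := continuous_def.mpr fun O hO => by
    refine isOpen_of_preimages h _ ?_ ?_
    · convert! hO.preimage f.hom.continuous using 1
      ext x
      simp only [Set.mem_preimage]
      rw [hG1]
    · convert! hO.preimage g.hom.continuous using 1
      ext y
      simp only [Set.mem_preimage]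
      rw [hG2]
  exact ⟨TopCat.ofHom ⟨G, hcont⟩, TopCat.ext hG1, TopCat.ext hG2⟩

/-- A pinched square is a pushout of ringed spaces. -/
theorem isPushout_toRS (h : IsPinch i j a b) :
    IsPushout (toRS.map i) (toRS.map j) (toRS.map a) (toRS.map b) := by
  have hw : toRS.map i ≫ toRS.map a = toRS.map j ≫ toRS.map b := by
    rw [← Functor.map_comp, ← Functor.map_comp, h.comm]
  have huniq : ∀ (U : P.Opens) (r r' : Γ(P, U)), a.app U r = a.app U r' → b.app U r = b.app U r' → r = r' :=
    fun U r r' h1 h2 => by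
      obtain ⟨r₀, -, hr⟩ := existsUnique_section h U (a.app U r') (b.app U r') (by
        rw [← CommRingCat.comp_apply, ← CommRingCat.comp_apply, (isPullback_sections h U).w])
      exact (hr r ⟨h1, h2⟩).trans (hr r' ⟨rfl, rfl⟩).symm
  have hsep : ∀ {Q : SheafedSpace CommRingCat.{u}} (m m' : toRS.obj P ⟶ Q),
      toRS.map a ≫ m = toRS.map a ≫ m' → toRS.map b ≫ m = toRS.map b ≫ m' → m = m' := by
    intro Q m m' h1 h2
    obtain ⟨⟨G, c⟩⟩ := m
    obtain ⟨⟨G', c'⟩⟩ := m'
    have hG : G = G' := by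
      refine TopCat.ext fun p => ?_
      rcases h.exists_preimage p with ⟨y, rfl⟩ | ⟨x, rfl⟩
      · exact congrArg (fun n => n.hom.base y) h2
      · exact congrArg (fun n => n.hom.base x) h1
    subst hG
    have hc : c = c' := by
      refine NatTrans.ext (funext fun O => CommRingCat.hom_ext (RingHom.ext fun r => ?_))
      have e1 : c.app O ≫ a.app ((Opens.map G).obj O.unop) =
          (c'.app O ≫ a.app ((Opens.map G).obj O.unop)) ≫
            X.presheaf.map (eqToHom (rfl : op (a ⁻¹ᵁ (Opens.map G).obj O.unop) = _)) :=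
        PresheafedSpace.congr_app (congrArg InducedCategory.Hom.hom h1) O
      have e2 : c.app O ≫ b.app ((Opens.map G).obj O.unop) =
          (c'.app O ≫ b.app ((Opens.map G).obj O.unop)) ≫
            Y.presheaf.map (eqToHom (rfl : op (b ⁻¹ᵁ (Opens.map G).obj O.unop) = _)) :=
        PresheafedSpace.congr_app (congrArg InducedCategory.Hom.hom h2) O
      have e1' : c.app O ≫ a.app ((Opens.map G).obj O.unop) = c'.app O ≫ a.app ((Opens.map G).obj O.unop) := by
        simpa using e1
      have e2' : c.app O ≫ b.app ((Opens.map G).obj O.unop) = c'.app O ≫ b.app ((Opens.map G).obj O.unop) := by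
        simpa using e2
      exact huniq _ _ _ (congrArg (fun n => n r) e1') (congrArg (fun n => n r) e2')
    rw [hc]
  have hex : ∀ {Q : SheafedSpace CommRingCat.{u}} (h1 : toRS.obj X ⟶ Q) (h2 : toRS.obj Y ⟶ Q),
      toRS.map i ≫ h1 = toRS.map j ≫ h2 → ∃ m : toRS.obj P ⟶ Q, toRS.map a ≫ m = h1 ∧ toRS.map b ≫ m = h2 := by
    intro Q h1 h2 hcond
    obtain ⟨G, hGa, hGb⟩ := exists_continuousMap h h1.hom.base h2.hom.base
      (congrArg (fun n => n.hom.base) hcond)
    let sA : ∀ O : (Opens Q)ᵒᵖ, Q.presheaf.obj O ⟶ Γ(X, a ⁻¹ᵁ (Opens.map G).obj O.unop) := fun O =>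
      h1.hom.c.app O ≫ X.presheaf.map (eqToHom (by rw [← hGa]; rfl))
    let sB : ∀ O : (Opens Q)ᵒᵖ, Q.presheaf.obj O ⟶ Γ(Y, b ⁻¹ᵁ (Opens.map G).obj O.unop) := fun O =>
      h2.hom.c.app O ≫ Y.presheaf.map (eqToHom (by rw [← hGb]; rfl))
    have hagree : ∀ O, sA O ≫ i.appLE (a ⁻¹ᵁ (Opens.map G).obj O.unop) ((i ≫ a) ⁻¹ᵁ (Opens.map G).obj O.unop) le_rfl =
        sB O ≫ j.appLE (b ⁻¹ᵁ (Opens.map G).obj O.unop) ((i ≫ a) ⁻¹ᵁ (Opens.map G).obj O.unop)
          (by rw [h.comm]; exact le_rfl) := by
      intro O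
      have e : h1.hom.c.app O ≫ i.app ((Opens.map h1.hom.base).obj O.unop) =
          (h2.hom.c.app O ≫ j.app ((Opens.map h2.hom.base).obj O.unop)) ≫
            Z.presheaf.map (eqToHom (congrArg (fun n => op ((Opens.map n).obj O.unop))
              (congrArg (fun n => n.hom.base) hcond).symm)) :=
        PresheafedSpace.congr_app (congrArg InducedCategory.Hom.hom hcond) O
      simp only [sA, sB, Category.assoc, Scheme.Hom.map_appLE]
      rw [Scheme.Hom.appLE, Scheme.Hom.appLE, ← Category.assoc (h1.hom.c.app O), e, Category.assoc, Category.assoc,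
        ← Z.presheaf.map_comp]
      congr 2
    have hsec : ∀ (O : (Opens Q)ᵒᵖ) (r : Q.presheaf.obj O),
        ∃! q : Γ(P, (Opens.map G).obj O.unop),
          a.app ((Opens.map G).obj O.unop) q = sA O r ∧ b.app ((Opens.map G).obj O.unop) q = sB O r :=
      fun O r => existsUnique_section h _ _ _ (congrArg (fun n => n r) (hagree O))
    choose γ hγ hγu using hsec
    let γ' : ∀ O, Q.presheaf.obj O ⟶ Γ(P, (Opens.map G).obj O.unop) := fun O => CommRingCat.ofHom
      { toFun := γ O
        map_one' := (hγu O 1 1 ⟨by simp, by simp⟩).symm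
        map_zero' := (hγu O 0 0 ⟨by simp, by simp⟩).symm
        map_add' := fun r r' => (hγu O _ _ ⟨by simp [(hγ O r).1, (hγ O r').1],
          by simp [(hγ O r).2, (hγ O r').2]⟩).symm
        map_mul' := fun r r' => (hγu O _ _ ⟨by simp [(hγ O r).1, (hγ O r').1],
          by simp [(hγ O r).2, (hγ O r').2]⟩).symm }
    have hγa : ∀ O, γ' O ≫ a.app ((Opens.map G).obj O.unop) = sA O := fun O =>
      CommRingCat.hom_ext (RingHom.ext fun r => (hγ O r).1)
    have hγb : ∀ O, γ' O ≫ b.app ((Opens.map G).obj O.unop) = sB O := fun O =>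
      CommRingCat.hom_ext (RingHom.ext fun r => (hγ O r).2)
    let c : Q.presheaf ⟶ G _* P.presheaf :=
      { app := γ'
        naturality := fun O O' f => by
          refine CommRingCat.hom_ext (RingHom.ext fun r => huniq _ _ _ ?_ ?_)
          · refine congrArg (fun n => n r) (show (Q.presheaf.map f ≫ γ' O') ≫ a.app ((Opens.map G).obj O'.unop) =
              (γ' O ≫ P.presheaf.map ((Opens.map G).map f.unop).op) ≫ a.app ((Opens.map G).obj O'.unop) from ?_)
            rw [Category.assoc, hγa, Category.assoc, Scheme.Hom.naturality, reassoc_of% (hγa O)]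
            simp [sA, ← Functor.map_comp]
            congr 1
            exact (X.presheaf.map_comp _ _).symm.trans (congrArg _ (Subsingleton.elim _ _))
          · refine congrArg (fun n => n r) (show (Q.presheaf.map f ≫ γ' O') ≫ b.app ((Opens.map G).obj O'.unop) =
              (γ' O ≫ P.presheaf.map ((Opens.map G).map f.unop).op) ≫ b.app ((Opens.map G).obj O'.unop) from ?_)
            rw [Category.assoc, hγb, Category.assoc, Scheme.Hom.naturality, reassoc_of% (hγb O)]
            simp [sB, ← Functor.map_comp]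
            congr 1
            exact (Y.presheaf.map_comp _ _).symm.trans (congrArg _ (Subsingleton.elim _ _)) }
    refine ⟨InducedCategory.homMk ⟨G, c⟩, ?_, ?_⟩
    · refine InducedCategory.hom_ext (PresheafedSpace.ext _ _ hGa ?_)
      refine NatTrans.ext (funext fun O => ?_)
      show (γ' O ≫ a.app ((Opens.map G).obj O.unop)) ≫ X.presheaf.map _ = h1.hom.c.app O
      rw [hγa]
      simp [sA, ← Functor.map_comp]
      exact Category.comp_id _
    · refine InducedCategory.hom_ext (PresheafedSpace.ext _ _ hGb ?_)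
      refine NatTrans.ext (funext fun O => ?_)
      show (γ' O ≫ b.app ((Opens.map G).obj O.unop)) ≫ Y.presheaf.map _ = h2.hom.c.app O
      rw [hγb]
      simp [sB, ← Functor.map_comp]
      exact Category.comp_id _
  exact ⟨⟨hw⟩, ⟨PushoutCocone.IsColimit.mk _ (fun c => (hex c.inl c.inr c.condition).choose)
    (fun c => (hex c.inl c.inr c.condition).choose_spec.1) (fun c => (hex c.inl c.inr c.condition).choose_spec.2)
    (fun c m h1 h2 => hsep _ _ (h1.trans (hex c.inl c.inr c.condition).choose_spec.1.symm)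
      (h2.trans (hex c.inl c.inr c.condition).choose_spec.2.symm))⟩⟩

end Groth.L24.PinchRS
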