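import Mathlib.AlgebraicGeometry.Scheme
import Mathlib.Geometry.RingedSpace.LocallyRingedSpace.HasColimits
import Mathlib.CategoryTheory.Limits.Shapes.Pullback.IsPullback.Basic

/-!
# Pushouts of schemes in ringed spaces are pushouts in schemes
-/

universe u

open CategoryTheory CategoryTheory.Limits AlgebraicGeometry

namespace Groth.L24.PinchRS

/-- The forgetful functor from schemes to sheafed spaces. -/
noncomputable abbrev toRS : Scheme.{u} ⥤ SheafedSpace CommRingCat.{u} :=
  Scheme.forgetToLocallyRingedSpace ⋙ LocallyRingedSpace.forgetToSheafedSpace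

theorem isPushout_of_map {Z X Y P : Scheme.{u}} {i : Z ⟶ X} {j : Z ⟶ Y} {a : X ⟶ P} {b : Y ⟶ P}
    (h : IsPushout (toRS.map i) (toRS.map j) (toRS.map a) (toRS.map b)) : IsPushout i j a b := by
  haveI : ReflectsColimitsOfShape WalkingSpan LocallyRingedSpace.forgetToSheafedSpace.{u} :=
    reflectsColimitsOfShape_of_reflectsIsomorphisms
  have h1 : IsPushout (Scheme.forgetToLocallyRingedSpace.map i) (Scheme.forgetToLocallyRingedSpace.map j)
      (Scheme.forgetToLocallyRingedSpace.map a) (Scheme.forgetToLocallyRingedSpace.map b) :=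
    IsPushout.of_map LocallyRingedSpace.forgetToSheafedSpace
      (by
        have w : i ≫ a = j ≫ b := toRS.map_injective (by rw [toRS.map_comp, toRS.map_comp]; exact h.w)
        rw [← Functor.map_comp, ← Functor.map_comp, w]) h
  exact IsPushout.of_map Scheme.forgetToLocallyRingedSpace
    (Scheme.forgetToLocallyRingedSpace.map_injective (by rw [Functor.map_comp, Functor.map_comp]; exact h1.w)) h1

end Groth.L24.PinchRS
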